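import Mathlib

/-!
A group scheme over a field is formally unramified iff it has no non-trivial point over the dual numbers
reducing to the unit.
-/

set_option autoImplicit false
set_option linter.style.haveILetI false
set_option backward.isDefEq.respectTransparency.types false

noncomputable section

universe u

open CategoryTheory CategoryTheory.Limits MonoidalCategory CartesianMonoidalCategory MonObj GrpObj AlgebraicGeometry
open TrivSqZeroExt

namespace Groth.Agent.AutVec57

variable (k : Type u) [Field k]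

/-- constants in the dual numbers -/
abbrev dualStr : CommRingCat.of k ⟶ CommRingCat.of (DualNumber k) := CommRingCat.ofHom (algebraMap k (DualNumber k))

/-- the spectrum of the dual numbers -/
abbrev dualT : Over (Spec (CommRingCat.of k)) := Over.mk (Spec.map (dualStr k))

/-- reduction of the dual numbers -/
abbrev dualRed : CommRingCat.of (DualNumber k) ⟶ CommRingCat.of k :=
  CommRingCat.ofHom (TrivSqZeroExt.fstHom k k k).toRingHom

/-- the closed point of the spectrum of the dual numbers -/
def dualPt : 𝟙_ (Over (Spec (CommRingCat.of k))) ⟶ dualT k :=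
  Over.homMk (Spec.map (dualRed k)) (by
    show Spec.map _ ≫ Spec.map _ = 𝟙 _
    rw [← Spec.map_comp, ← Spec.map_id]
    congr 1)

@[simp] theorem dualPt_left : (dualPt k).left = Spec.map (dualRed k) := rfl

variable {k}

/-- Ring form: all square-zero deformations of an augmentation are trivial if the tangent functionals vanish. -/
theorem eq_of_tangent_zero {A R : Type u} [CommRing A] [Algebra k A] [CommRing R] [Algebra k R] (ev : A →ₐ[k] k)
    (h : ∀ ψ : A →ₐ[k] DualNumber k, (∀ a, (ψ a).fst = ev a) → ∀ a, (ψ a).snd = 0)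
    (I : Ideal R) (hI : I ^ 2 = ⊥) (ψ : A →ₐ[k] R) (hψ : ∀ a, ψ a - algebraMap k R (ev a) ∈ I) (a : A) :
    ψ a = algebraMap k R (ev a) := by
  let m := RingHom.ker ev.toRingHom
  have hm : ∀ b, b - algebraMap k A (ev b) ∈ m := fun b => by simp [m]
  have hsq : ∀ x ∈ m, x ∈ (m ^ 2 : Ideal A) := by
    intro x hx
    by_contra hx2
    let p : Submodule k A := (m ^ 2 : Ideal A).restrictScalars k ⊔ Submodule.span k {1}
    have hxp : x ∉ p := by
      intro hp
      obtain ⟨y, hy, z, hz, hyz⟩ := Submodule.mem_sup.1 hp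
      obtain ⟨c, rfl⟩ := Submodule.mem_span_singleton.1 hz
      have hy' : ev y = 0 := Ideal.pow_le_self two_ne_zero hy
      have hc : c = 0 := by
        have h1 : ev (y + c • (1 : A)) = 0 := by rw [hyz]; exact hx
        simpa [map_add, map_smul, hy'] using h1
      subst hc
      simp only [zero_smul, add_zero] at hyz
      exact hx2 (hyz ▸ hy)
    obtain ⟨lam, hlamx, hlamp⟩ := p.exists_dual_map_eq_bot_of_notMem hxp inferInstance
    have hlam0 : ∀ y ∈ p, lam y = 0 := fun y hy => (Submodule.mem_bot k).1 (hlamp ▸ Submodule.mem_map_of_mem hy)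
    have hlam1 : lam 1 = 0 := hlam0 1 (Submodule.mem_sup_right (Submodule.mem_span_singleton_self 1))
    have hlammul : ∀ b c, lam (b * c) = ev b * lam c + lam b * ev c := by
      intro b c
      have hbc : (b - algebraMap k A (ev b)) * (c - algebraMap k A (ev c)) ∈ m ^ 2 := by
        rw [sq]; exact Ideal.mul_mem_mul (hm b) (hm c)
      have h0 := hlam0 _ (Submodule.mem_sup_left ((Submodule.restrictScalars_mem k _ _).2 hbc))
      rw [show (b - algebraMap k A (ev b)) * (c - algebraMap k A (ev c)) =
          b * c - ev b • c - ev c • b + (ev b * ev c) • (1 : A) by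
        simp only [Algebra.smul_def, map_mul]; ring] at h0
      simp only [map_add, map_sub, map_smul, hlam1, smul_eq_mul, mul_zero, add_zero] at h0
      linear_combination h0
    let χ : A →ₐ[k] DualNumber k :=
      AlgHom.ofLinearMap
        { toFun := fun b => TrivSqZeroExt.inl (ev b) + TrivSqZeroExt.inr (lam b)
          map_add' := fun b c => by ext <;> simp
          map_smul' := fun c b => by ext <;> simp }
        (by ext <;> simp [hlam1])
        (fun b c => by ext <;> simp [hlammul] <;> ring)
    refine hlamx ?_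
    have := h χ (fun b => by simp [χ]) x
    simpa [χ] using this
  have hmI : Ideal.map ψ.toRingHom m ≤ I := by
    rw [Ideal.map_le_iff_le_comap]
    intro x hx
    have := hψ x
    rw [show ev x = 0 from hx, map_zero, sub_zero] at this
    exact this
  have h0 : ψ (a - algebraMap k A (ev a)) = 0 := by
    have h1 : ψ.toRingHom (a - algebraMap k A (ev a)) ∈ Ideal.map ψ.toRingHom (m ^ 2) :=
      Ideal.mem_map_of_mem _ (hsq _ (hm a))
    rw [Ideal.map_pow] at h1
    have h2 := Ideal.pow_right_mono hmI 2 h1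
    rwa [hI, Ideal.mem_bot] at h2
  rwa [map_sub, AlgHom.commutes, sub_eq_zero] at h0

variable (G : Over (Spec (CommRingCat.of k))) [GrpObj G]

theorem one_left (T : Over (Spec (CommRingCat.of k))) : (1 : T ⟶ G).left = T.hom ≫ η[G].left := by
  rw [Hom.one_def, Over.comp_left]
  congr 1

theorem exists_chart : ∃ (A : CommRingCat.{u}) (j : Spec A ⟶ G.left) (str : CommRingCat.of k ⟶ A) (ev : A ⟶ CommRingCat.of k),
    IsOpenImmersion j ∧ Spec.map str = j ≫ G.hom ∧ Spec.map ev ≫ j = η[G].left ∧ str ≫ ev = 𝟙 _ := by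
  obtain ⟨U, hU, hxU, -⟩ := exists_isAffineOpen_mem_and_subset (U := (⊤ : G.left.Opens))
    (x := η[G].left (IsLocalRing.closedPoint k)) trivial
  have hrange : Set.range η[G].left ⊆ Set.range hU.fromSpec := by
    rw [IsAffineOpen.range_fromSpec]
    rintro _ ⟨x, rfl⟩
    have : x = IsLocalRing.closedPoint k := Subsingleton.elim (α := PrimeSpectrum k) _ _
    rw [this]; exact hxU
  let ev := Spec.preimage (IsOpenImmersion.lift hU.fromSpec η[G].left hrange)
  have hev : Spec.map ev ≫ hU.fromSpec = η[G].left := by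
    rw [Spec.map_preimage, IsOpenImmersion.lift_fac]
  refine ⟨Γ(G.left, U), hU.fromSpec, Spec.preimage (hU.fromSpec ≫ G.hom), ev, inferInstance,
    Spec.map_preimage _, hev, ?_⟩
  apply Spec.map_injective
  rw [Spec.map_comp, Spec.map_preimage (hU.fromSpec ≫ G.hom), ← Category.assoc, hev, Spec.map_id]
  exact Over.w η[G]

/-- A point which is the unit on a closed subscheme with square-zero ideal, in a chart at the unit. -/
theorem exists_ringHom {A : CommRingCat.{u}} (j : Spec A ⟶ G.left) [IsOpenImmersion j] (str : CommRingCat.of k ⟶ A)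
    (ev : A ⟶ CommRingCat.of k) (hstr : Spec.map str = j ≫ G.hom) (hev : Spec.map ev ≫ j = η[G].left)
    {R S : CommRingCat.{u}} (r : CommRingCat.of k ⟶ R) (φ : R ⟶ S) (hφ : Function.Surjective φ)
    (hφ2 : RingHom.ker φ.hom ^ 2 = ⊥) (gam : Over.mk (Spec.map r) ⟶ G)
    (hgam : Spec.map φ ≫ gam.left = Spec.map φ ≫ (1 : Over.mk (Spec.map r) ⟶ G).left) :
    ∃ ψ : A ⟶ R, str ≫ ψ = r ∧ Spec.map ψ ≫ j = gam.left ∧ ψ ≫ φ = ev ≫ r ≫ φ := by
  have hsurj : Function.Surjective (Spec.map φ) := by
    intro (x : PrimeSpectrum R)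
    have : x ∈ Set.range (PrimeSpectrum.comap φ.hom) := by
      rw [range_comap_of_surjective _ _ hφ, PrimeSpectrum.mem_zeroLocus]
      intro y hy
      refine x.isPrime.mem_of_pow_mem 2 ?_
      have : y ^ 2 ∈ RingHom.ker φ.hom ^ 2 := Ideal.pow_mem_pow hy 2
      rw [hφ2, Ideal.mem_bot] at this
      rw [this]
      exact zero_mem _
    exact this
  rw [one_left] at hgam
  have hrange : Set.range gam.left ⊆ Set.range j := by
    rintro _ ⟨x, rfl⟩
    obtain ⟨x, rfl⟩ := hsurj x
    rw [← Scheme.Hom.comp_apply, hgam, ← hev]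
    exact ⟨_, rfl⟩
  let ψ := Spec.preimage (IsOpenImmersion.lift j gam.left hrange)
  have hψ : Spec.map ψ ≫ j = gam.left := by rw [Spec.map_preimage, IsOpenImmersion.lift_fac]
  refine ⟨ψ, Spec.map_injective ?_, hψ, Spec.map_injective ?_⟩
  · rw [Spec.map_comp, hstr, ← Category.assoc, hψ]
    exact Over.w gam
  · rw [← cancel_mono j, Spec.map_comp, Category.assoc, hψ, hgam, Spec.map_comp, Spec.map_comp,
      Category.assoc, Category.assoc, hev]
    rfl

/-- No non-trivial tangent vector at the unit: formally unramified. -/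
theorem formallyUnramified_of_tangent
    (h : ∀ g : dualT k ⟶ G, dualPt k ≫ g = 1 → g = 1) : FormallyUnramified G.hom := by
  obtain ⟨A, j, str, ev, hj, hstr, hev, hse⟩ := exists_chart G
  letI : Algebra k A := str.hom.toAlgebra
  let evA : A →ₐ[k] k := { ev.hom with commutes' := fun c => congr($hse c) }
  have htan : ∀ χ : A →ₐ[k] DualNumber k, (∀ a, (χ a).fst = evA a) → ∀ a, (χ a).snd = 0 := by
    intro χ hχ a
    let c : A ⟶ CommRingCat.of (DualNumber k) := CommRingCat.ofHom χ.toRingHom
    have hc : str ≫ c = dualStr k := CommRingCat.hom_ext (RingHom.ext χ.commutes)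
    let g : dualT k ⟶ G := Over.homMk (Spec.map c ≫ j) (by
      rw [Category.assoc, ← hstr, ← Spec.map_comp, hc]; rfl)
    have hg : dualPt k ≫ g = 1 := by
      apply Over.OverMorphism.ext
      rw [one_left, Over.comp_left]
      show Spec.map (dualRed k) ≫ Spec.map c ≫ j = 𝟙 _ ≫ η[G].left
      rw [Category.id_comp, ← Category.assoc, ← Spec.map_comp, ← hev]
      congr 2
      exact CommRingCat.hom_ext (RingHom.ext hχ)
    have h1 := congrArg (fun e : dualT k ⟶ G => e.left) (h g hg)
    simp only [one_left] at h1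
    rw [← hev] at h1
    change Spec.map c ≫ j = Spec.map (dualStr k) ≫ Spec.map ev ≫ j at h1
    rw [← Category.assoc, cancel_mono, ← Spec.map_comp] at h1
    have h2 : χ a = algebraMap k (DualNumber k) (ev a) := congr($(Spec.map_injective h1) a)
    rw [h2, TrivSqZeroExt.algebraMap_eq_inl, TrivSqZeroExt.snd_inl]
  refine FormallyUnramified.of_hom_ext _ fun R S φ hφ hφ2 g₁ g₂ hg hf => ?_
  let r : CommRingCat.of k ⟶ R := Spec.preimage (g₁ ≫ G.hom)
  let gam₁ : Over.mk (Spec.map r) ⟶ G := Over.homMk g₁ (Spec.map_preimage _).symm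
  let gam₂ : Over.mk (Spec.map r) ⟶ G := Over.homMk g₂ (by rw [← hf]; exact (Spec.map_preimage _).symm)
  let i : Over.mk (Spec.map φ ≫ Spec.map r) ⟶ Over.mk (Spec.map r) := Over.homMk (Spec.map φ)
  have hi : i ≫ gam₁ = i ≫ gam₂ := Over.OverMorphism.ext hg
  have hgam : i ≫ (gam₁ * gam₂⁻¹) = i ≫ 1 := by
    rw [MonObj.comp_mul, GrpObj.comp_inv, hi, mul_inv_cancel, MonObj.comp_one]
  obtain ⟨ψ, hψr, hψ, hψφ⟩ := exists_ringHom G j str ev hstr hev r φ hφ hφ2 (gam₁ * gam₂⁻¹)
    (congrArg CommaMorphism.left hgam)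
  letI : Algebra k R := r.hom.toAlgebra
  let ψA : A →ₐ[k] R := { ψ.hom with commutes' := fun c => congr($hψr c) }
  have key := eq_of_tangent_zero evA htan (RingHom.ker φ.hom) hφ2 ψA fun a => by
    rw [RingHom.mem_ker, map_sub, sub_eq_zero]
    exact congr($hψφ a)
  have h1 : gam₁ * gam₂⁻¹ = 1 := by
    apply Over.OverMorphism.ext
    rw [one_left, ← hψ, ← hev]
    show Spec.map ψ ≫ j = Spec.map r ≫ Spec.map ev ≫ j
    rw [← Category.assoc, ← Spec.map_comp]
    congr 2
    exact CommRingCat.hom_ext (RingHom.ext key)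
  exact congrArg (fun e : Over.mk (Spec.map r) ⟶ G => e.left) (mul_inv_eq_one.1 h1 : gam₁ = gam₂)

/-- A formally unramified group scheme has no non-trivial tangent vector at the unit. -/
theorem tangent_of_formallyUnramified [FormallyUnramified G.hom] (g : dualT k ⟶ G) (hg : dualPt k ≫ g = 1) :
    g = 1 := by
  obtain ⟨A, j, str, ev, hj, hstr, hev, hse⟩ := exists_chart G
  have hfu : FormallyUnramified (Spec.map str) := by rw [hstr]; exact MorphismProperty.comp_mem @FormallyUnramified _ _ inferInstance inferInstance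
  letI : Algebra k A := str.hom.toAlgebra
  haveI : Algebra.FormallyUnramified k A := (HasRingHomProperty.Spec_iff (P := @FormallyUnramified)).1 hfu
  have hker : RingHom.ker (dualRed k).hom ^ 2 = ⊥ := by
    rw [sq, eq_bot_iff, Ideal.mul_le]
    intro x hx y hy
    rw [RingHom.mem_ker] at hx hy
    change x.fst = 0 at hx
    change y.fst = 0 at hy
    rw [Ideal.mem_bot]
    ext <;> simp [hx, hy]
  have h' : Spec.map (dualRed k) ≫ g.left = Spec.map (dualRed k) ≫ (1 : dualT k ⟶ G).left := by
    rw [← MonObj.comp_one (dualPt k)] at hg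
    exact congrArg CommaMorphism.left hg
  obtain ⟨ψ, hψr, hψ, hψφ⟩ := exists_ringHom G j str ev hstr hev (dualStr k) (dualRed k)
    (fun c => ⟨TrivSqZeroExt.inl c, by simp⟩) hker g h'
  let ψA : A →ₐ[k] DualNumber k := { ψ.hom with commutes' := fun c => congr($hψr c) }
  let χA : A →ₐ[k] DualNumber k :=
    { (ev ≫ dualStr k).hom with commutes' := fun c => congrArg (algebraMap k (DualNumber k)) congr($hse c) }
  have key : ψA = χA := Algebra.FormallyUnramified.ext' (dualRed k).hom ⟨2, hker⟩ ψA χA fun a => congr($hψφ a)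
  apply Over.OverMorphism.ext
  rw [one_left, ← hψ, ← hev]
  show Spec.map ψ ≫ j = Spec.map (dualStr k) ≫ Spec.map ev ≫ j
  rw [← Category.assoc, ← Spec.map_comp]
  congr 2
  exact CommRingCat.hom_ext (RingHom.ext fun a => congr($key a))

end Groth.Agent.AutVec57
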