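import Groth.Agent.AutVec57.TanUnram

/-!
The product of a scheme ovr a field with the spectrum of the dual numbers.
-/

set_option autoImplicit false
set_option linter.style.haveILetI false
set_option backward.isDefEq.respectTransparency.types false

noncomputable section

universe u

open CategoryTheory CategoryTheory.Limits MonoidalCategory CartesianMonoidalCategory AlgebraicGeometry TopologicalSpace Opposite

namespace Groth.Agent.AutVec57

variable {k : Type u} [Field k] (X : Over (Spec (CommRingCat.of k)))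

theorem appLE_congr_hom {P Q : Scheme.{u}} {f g : P ⟶ Q} (h : f = g) {U : Q.Opens} {V : P.Opens}
    (e : V ≤ f ⁻¹ᵁ U) : f.appLE U V e = g.appLE U V (h ▸ e) := by
  subst h; rfl

theorem appLE_top {P Q : Scheme.{u}} (f : P ⟶ Q) (e : (⊤ : P.Opens) ≤ f ⁻¹ᵁ ⊤) : f.appLE ⊤ ⊤ e = f.appTop := by
  simp [Scheme.Hom.appLE]

/-- the thickening of `X` -/
abbrev Z : Over (Spec (CommRingCat.of k)) := X ⊗ dualT k

/-- the projection of the thickening -/
abbrev pi : (Z X).left ⟶ X.left := (fst X (dualT k)).left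

/-- the embedding of `X` into the thickening -/
abbrev sec : X ⟶ Z X := lift (𝟙 X) (toUnit X ≫ dualPt k)

theorem sec_pi : (sec X).left ≫ pi X = 𝟙 _ := congrArg (fun e : X ⟶ X => e.left) (lift_fst (𝟙 X) (toUnit X ≫ dualPt k))

theorem sec_snd : (sec X).left ≫ (snd X (dualT k)).left = X.hom ≫ (dualPt k).left :=
  congrArg (fun e : X ⟶ dualT k => e.left) (lift_snd (𝟙 X) (toUnit X ≫ dualPt k))

theorem isPullback_Z : IsPullback (snd X (dualT k)).left (pi X) (dualT k).hom X.hom :=
  (IsPullback.of_hasPullback X.hom (dualT k).hom).flip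

theorem surjective_dualPt : Surjective (dualPt k).left := ⟨fun (x : PrimeSpectrum (DualNumber k)) => by
  have : x ∈ Set.range (PrimeSpectrum.comap (dualRed k).hom) := by
    rw [range_comap_of_surjective _ _ (fun c => ⟨TrivSqZeroExt.inl c, rfl⟩), PrimeSpectrum.mem_zeroLocus]
    intro y hy
    have hy' : y.fst = 0 := hy
    refine x.isPrime.mem_of_pow_mem 2 ?_
    rw [show y ^ 2 = 0 by rw [pow_two]; ext <;> simp [hy']]
    exact zero_mem _
  exact this⟩

theorem surjective_sec : Surjective (sec X).left := by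
  have hp : IsPullback (sec X).left X.hom (snd X (dualT k)).left (dualPt k).left := by
    refine IsPullback.of_right (h₁₂ := pi X) (h₂₂ := (dualT k).hom) (v₁₃ := X.hom) ?_ (sec_snd X) (isPullback_Z X).flip
    rw [sec_pi, Over.w (dualPt k)]
    haveI : IsIso (𝟙_ (Over (Spec (CommRingCat.of k)))).hom := inferInstanceAs (IsIso (𝟙 (Spec (CommRingCat.of k))))
    exact IsPullback.of_horiz_isIso ⟨(Category.id_comp _).trans (Category.comp_id _).symm⟩
  exact MorphismProperty.of_isPullback (P := @Surjective) hp.flip (surjective_dualPt)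

theorem base_eq_of_sec {φ : (Z X).left ⟶ X.left} (h : (sec X).left ≫ φ = 𝟙 _) : φ.base = (pi X).base := by
  ext z
  obtain ⟨x, rfl⟩ := (surjective_sec X).surj z
  show φ ((sec X).left x) = pi X ((sec X).left x)
  rw [← Scheme.Hom.comp_apply, ← Scheme.Hom.comp_apply, h, sec_pi]

/-- the open of the thickening ovr an open -/
abbrev ovr (V : X.left.Opens) : (Z X).left.Opens := pi X ⁻¹ᵁ V

theorem sec_over (V : X.left.Opens) : V ≤ (sec X).left ⁻¹ᵁ ovr X V := fun x hx => by
  show (pi X) ((sec X).left x) ∈ V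
  rwa [← Scheme.Hom.comp_apply, sec_pi]

/-- functions pulled back to the thickening -/
abbrev pb (V : X.left.Opens) : Γ(X.left, V) ⟶ Γ((Z X).left, ovr X V) := (pi X).app V

/-- the infinitesimal -/
def eps (V : X.left.Opens) : Γ((Z X).left, ovr X V) :=
  (snd X (dualT k)).left.appLE ⊤ (ovr X V) le_top
    ((Scheme.ΓSpecIso (CommRingCat.of (DualNumber k))).inv DualNumber.eps)

/-- reduction modulo the infinitesimal -/
abbrev red (V : X.left.Opens) : Γ((Z X).left, ovr X V) ⟶ Γ(X.left, V) :=
  (sec X).left.appLE (ovr X V) V (sec_over X V)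

/-- restriction on the thickening -/
abbrev res {V W : X.left.Opens} (h : W ≤ V) : Γ((Z X).left, ovr X V) ⟶ Γ((Z X).left, ovr X W) :=
  (Z X).left.presheaf.map (homOfLE ((pi X).preimage_mono h)).op

/-- restriction -/
abbrev resX {V W : X.left.Opens} (h : W ≤ V) : Γ(X.left, V) ⟶ Γ(X.left, W) :=
  X.left.presheaf.map (homOfLE h).op

theorem res_pb {V W : X.left.Opens} (h : W ≤ V) (b : Γ(X.left, V)) : res X h (pb X V b) = pb X W (resX X h b) :=
  congr($(((pi X).naturality (homOfLE h).op).symm) b)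

theorem res_eps {V W : X.left.Opens} (h : W ≤ V) : res X h (eps X V) = eps X W := by
  show ((snd X (dualT k)).left.appLE ⊤ (ovr X V) le_top ≫ res X h) _ = _
  rw [Scheme.Hom.appLE_map]
  rfl

theorem red_res {V W : X.left.Opens} (h : W ≤ V) (z : Γ((Z X).left, ovr X V)) :
    red X W (res X h z) = resX X h (red X V z) := by
  show (res X h ≫ red X W) z = (red X V ≫ resX X h) z
  rw [Scheme.Hom.map_appLE, Scheme.Hom.appLE_map]

theorem red_pb (V : X.left.Opens) (b : Γ(X.left, V)) : red X V (pb X V b) = b := by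
  show ((pi X).app V ≫ red X V) b = b
  rw [Scheme.Hom.app_eq_appLE, Scheme.Hom.appLE_comp_appLE, appLE_congr_hom (sec_pi X)]
  have h2 : (𝟙 X.left : X.left ⟶ X.left).appLE V V le_rfl = 𝟙 _ := by
    simp only [Scheme.Hom.appLE, Scheme.Hom.id_app]
    exact (congrArg _ (X.left.presheaf.map_id _)).trans (Category.comp_id _)
  rw [h2]; rfl

theorem red_eps (V : X.left.Opens) : red X V (eps X V) = 0 := by
  show ((snd X (dualT k)).left.appLE ⊤ (ovr X V) le_top ≫ red X V) _ = 0
  rw [Scheme.Hom.appLE_comp_appLE]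
  rw [appLE_congr_hom (sec_snd X), ← Scheme.Hom.appLE_comp_appLE X.hom (dualPt k).left ⊤ ⊤ V le_top le_top,
    CategoryTheory.comp_apply]
  have : (dualPt k).left.appLE ⊤ ⊤ le_top ((Scheme.ΓSpecIso (CommRingCat.of (DualNumber k))).inv DualNumber.eps) = 0 := by
    show ((Scheme.ΓSpecIso (CommRingCat.of (DualNumber k))).inv ≫
      (Spec.map (dualRed k)).appLE ⊤ ⊤ le_top) DualNumber.eps = _
    rw [appLE_top, ← Scheme.ΓSpecIso_inv_naturality, CategoryTheory.comp_apply]
    have : dualRed k DualNumber.eps = 0 := rfl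
    rw [this, map_zero]
  exact (congrArg _ this).trans (map_zero _)

theorem eps_sq (V : X.left.Opens) : eps X V * eps X V = 0 := by
  rw [eps, ← map_mul, ← map_mul, DualNumber.eps_mul_eps, map_zero, map_zero]

theorem exists_coeff {U : X.left.Opens} (hU : IsAffineOpen U) :
    ∃ q : Γ((Z X).left, ovr X U) →+* DualNumber Γ(X.left, U),
      Function.Injective q ∧ (∀ b, q (pb X U b) = TrivSqZeroExt.inl b) ∧ q (eps X U) = DualNumber.eps := by
  let strB : CommRingCat.of k ⟶ Γ(X.left, U) := Spec.preimage (hU.fromSpec ≫ X.hom)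
  letI : Algebra k Γ(X.left, U) := strB.hom.toAlgebra
  let B := Γ(X.left, U)
  let D := DualNumber k
  let mD : D →ₐ[k] DualNumber B := DualNumber.lift
    ⟨⟨Algebra.ofId k (DualNumber B), DualNumber.eps⟩, DualNumber.eps_mul_eps, fun a => mul_comm _ _⟩
  have hmDe : mD DualNumber.eps = DualNumber.eps := DualNumber.lift_apply_eps _
  have hmDi : ∀ c : k, mD (TrivSqZeroExt.inl c) = TrivSqZeroExt.inl (algebraMap k B c) := fun c => by
    rw [← TrivSqZeroExt.algebraMap_eq_inl, AlgHom.commutes]; rfl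
  let iB : B →ₐ[k] DualNumber B := TrivSqZeroExt.inlAlgHom k B B
  let coef := Algebra.TensorProduct.productMap iB mD
  have hdec : ∀ d : D, d = d.fst • (1 : D) + d.snd • DualNumber.eps := fun d => by
    refine TrivSqZeroExt.ext ?_ ?_ <;> simp [D]
  have hdec' : ∀ d : D, d = TrivSqZeroExt.inl d.fst + TrivSqZeroExt.inl d.snd * DualNumber.eps := fun d => by
    refine TrivSqZeroExt.ext ?_ ?_ <;> simp [D]
  have hbij : Function.Bijective coef := by
    let g : DualNumber B → TensorProduct k B D := fun y => y.fst ⊗ₜ (1 : D) + y.snd ⊗ₜ DualNumber.eps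
    refine Function.bijective_iff_has_inverse.2 ⟨g, fun w => ?_, fun y => ?_⟩
    · induction w using TensorProduct.induction_on with
      | zero => simp [g]
      | tmul b d =>
        have hd : mD d = TrivSqZeroExt.inl (algebraMap k B d.fst) + TrivSqZeroExt.inr (algebraMap k B d.snd) := by
          conv_lhs => rw [hdec' d, map_add, map_mul, hmDi, hmDi, hmDe]
          ext <;> simp [Algebra.smul_def, TrivSqZeroExt.algebraMap_eq_inl]
        show g (iB b * mD d) = _
        rw [hd]
        conv_rhs => rw [hdec d, TensorProduct.tmul_add, ← TensorProduct.smul_tmul, ← TensorProduct.smul_tmul]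
        simp [g, iB, Algebra.smul_def, mul_comm, TrivSqZeroExt.algebraMap_eq_inl]
      | add p q hp hq =>
        rw [map_add]
        simp only [g, TrivSqZeroExt.fst_add, TrivSqZeroExt.snd_add, TensorProduct.add_tmul] at hp hq ⊢
        linear_combination (norm := abel) hp + hq
    · simp only [g, map_add, coef, Algebra.TensorProduct.productMap_apply_tmul, map_one, mul_one, hmDe]
      ext <;> simp [iB]
  let jI : CommRingCat.of (TensorProduct k B D) ≅ CommRingCat.of (DualNumber B) :=
    (RingEquiv.ofBijective coef.toRingHom hbij).toCommRingCatIso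
  haveI : IsIso (Spec.map jI.hom) := inferInstance
  let inlB : B ⟶ CommRingCat.of (DualNumber B) := CommRingCat.ofHom iB.toRingHom
  let mD' : CommRingCat.of D ⟶ CommRingCat.of (DualNumber B) := CommRingCat.ofHom mD.toRingHom
  have hpb : IsPullback (Spec.map mD') (Spec.map inlB) (dualT k).hom (hU.fromSpec ≫ X.hom) := by
    rw [show hU.fromSpec ≫ X.hom = Spec.map strB from (Spec.map_preimage _).symm]
    refine ((isPullback_SpecMap_of_isPushout _ _ _ _ (CommRingCat.isPushout_tensorProduct k B D)).of_iso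
      (asIso (Spec.map jI.hom)).symm (Iso.refl _) (Iso.refl _) (Iso.refl _) ?_ ?_ ?_ ?_).flip
    · rw [Iso.refl_hom, Category.comp_id, Iso.symm_hom, asIso_inv, IsIso.eq_inv_comp, ← Spec.map_comp]
      congr 1
      refine CommRingCat.hom_ext (RingHom.ext fun b => ?_)
      show coef (b ⊗ₜ (1 : D)) = iB b
      simp [coef]
    · rw [Iso.refl_hom, Category.comp_id, Iso.symm_hom, asIso_inv, IsIso.eq_inv_comp, ← Spec.map_comp]
      congr 1
      refine CommRingCat.hom_ext (RingHom.ext fun d => ?_)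
      show coef ((1 : B) ⊗ₜ d) = mD d
      simp [coef]
    · simp; rfl
    · simp
  let w : Spec (CommRingCat.of (DualNumber B)) ⟶ (Z X).left :=
    (isPullback_Z X).lift (Spec.map mD') (Spec.map inlB ≫ hU.fromSpec) (by rw [Category.assoc]; exact hpb.w)
  have hw1 : w ≫ pi X = Spec.map inlB ≫ hU.fromSpec := IsPullback.lift_snd _ _ _ _
  have hw2 : w ≫ (snd X (dualT k)).left = Spec.map mD' := IsPullback.lift_fst _ _ _ _
  have hW : IsPullback w (Spec.map inlB) (pi X) hU.fromSpec :=
    IsPullback.of_right (h₁₂ := (snd X (dualT k)).left) (h₂₂ := X.hom) (v₁₃ := (dualT k).hom)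
      (by rw [hw2]; exact hpb) hw1 (isPullback_Z X)
  haveI : IsOpenImmersion w := MorphismProperty.of_isPullback (P := @IsOpenImmersion) hW.flip inferInstance
  have hrange : ovr X U ≤ w.opensRange := by
    intro z hz
    have hz' : z ∈ Set.range (pullback.fst (pi X) hU.fromSpec) := by
      rw [Scheme.Pullback.range_fst, IsAffineOpen.range_fromSpec]; exact hz
    obtain ⟨y, rfl⟩ := hz'
    refine ⟨hW.isoPullback.inv y, ?_⟩
    rw [← Scheme.Hom.comp_apply, hW.isoPullback_inv_fst]
  have htop : (⊤ : (Spec (CommRingCat.of (DualNumber B))).Opens) ≤ w ⁻¹ᵁ ovr X U := by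
    intro y _
    show (pi X) (w y) ∈ U
    rw [← Scheme.Hom.comp_apply, hw1, Scheme.Hom.comp_apply]
    exact hU.range_fromSpec.le ⟨_, rfl⟩
  haveI : IsIso (w.app (ovr X U)) := w.isIso_app _ hrange
  haveI : IsIso (w.appLE (ovr X U) ⊤ htop) := by
    have he : w ⁻¹ᵁ ovr X U = ⊤ := top_le_iff.1 htop
    rw [Scheme.Hom.appLE, show (homOfLE htop) = eqToHom he.symm from Subsingleton.elim _ _]
    infer_instance
  let q := w.appLE (ovr X U) ⊤ htop ≫ (Scheme.ΓSpecIso (CommRingCat.of (DualNumber B))).hom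
  haveI : IsIso q := inferInstance
  refine ⟨q.hom, (ConcreteCategory.bijective_of_isIso q).1, fun b => ?_, ?_⟩
  · show ((pi X).app U ≫ q) b = _
    have : (pi X).app U ≫ q = inlB := by
      rw [← Category.assoc, Scheme.Hom.app_eq_appLE, Scheme.Hom.appLE_comp_appLE]
      rw [appLE_congr_hom hw1, ← Scheme.Hom.appLE_comp_appLE (Spec.map inlB) hU.fromSpec U ⊤ ⊤
        (by rw [hU.fromSpec_preimage_self]) le_top, Category.assoc]
      rw [show hU.fromSpec.appLE U ⊤ (by rw [hU.fromSpec_preimage_self]) = (Scheme.ΓSpecIso Γ(X.left, U)).inv by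
        simp only [Scheme.Hom.appLE, hU.fromSpec_app_self, Category.assoc]
        rw [← Functor.map_comp]
        exact (congrArg _ ((Spec Γ(X.left, U)).presheaf.map_id _)).trans (Category.comp_id _),
        appLE_top,
        Scheme.ΓSpecIso_naturality, Iso.inv_hom_id_assoc]
    rw [this]; rfl
  · show ((snd X (dualT k)).left.appLE ⊤ (ovr X U) le_top ≫ q) _ = _
    rw [← Category.assoc, Scheme.Hom.appLE_comp_appLE]
    rw [appLE_congr_hom hw2, appLE_top,
      Scheme.ΓSpecIso_naturality, CategoryTheory.comp_apply]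
    erw [Iso.inv_hom_id_apply]
    exact hmDe

theorem eq_zero_of_eps_mul {V : X.left.Opens} (b : Γ(X.left, V)) (h : eps X V * pb X V b = 0) : b = 0 := by
  refine X.left.sheaf.eq_of_locally_eq' (fun U : {U : X.left.Opens // IsAffineOpen U ∧ U ≤ V} => U.1) V
    (fun U => homOfLE U.2.2) ?_ b 0 fun U => ?_
  · intro x hx
    obtain ⟨U, hU, hxU, hUV⟩ := exists_isAffineOpen_mem_and_subset (U := V) hx
    exact Opens.mem_iSup.2 ⟨⟨U, hU, hUV⟩, hxU⟩
  · obtain ⟨q, -, hq₁, hq₂⟩ := exists_coeff X U.2.1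
    have h' : eps X U.1 * pb X U.1 (resX X U.2.2 b) = 0 := by
      rw [← res_eps X U.2.2, ← res_pb, ← map_mul, h, map_zero]
    have h'' := congrArg q h'
    rw [map_mul, hq₁, hq₂, map_zero] at h''
    have : resX X U.2.2 b = 0 := by simpa using congrArg TrivSqZeroExt.snd h''
    exact this.trans (map_zero _).symm

theorem exists_eps_mul {V : X.left.Opens} (z : Γ((Z X).left, ovr X V)) (h : red X V z = 0) :
    ∃ b : Γ(X.left, V), eps X V * pb X V b = z := by
  let ι := {U : X.left.Opens // IsAffineOpen U ∧ U ≤ V}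
  have hloc : ∀ U : ι, ∃ b : Γ(X.left, U.1), eps X U.1 * pb X U.1 b = res X U.2.2 z := fun U => by
    obtain ⟨q, hq, hq₁, hq₂⟩ := exists_coeff X U.2.1
    let y := q (res X U.2.2 z)
    refine ⟨y.snd, hq ?_⟩
    have hy : res X U.2.2 z = pb X U.1 y.fst + eps X U.1 * pb X U.1 y.snd := hq (by
      rw [map_add, map_mul, hq₁, hq₁, hq₂]
      ext <;> simp [y])
    have h0 : y.fst = 0 := by
      have := red_res X U.2.2 z
      rw [h, map_zero, hy, map_add, map_mul, red_eps, zero_mul, add_zero, red_pb] at this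
      exact this
    rw [hy, h0, map_zero, zero_add]
  choose b hb using hloc
  have hcov : V ≤ iSup (fun U : ι => U.1) := fun x hx => by
    obtain ⟨U, hU, hxU, hUV⟩ := exists_isAffineOpen_mem_and_subset (U := V) hx
    exact Opens.mem_iSup.2 ⟨⟨U, hU, hUV⟩, hxU⟩
  have hcomp : TopCat.Presheaf.IsCompatible X.left.sheaf.1 (fun U : ι => U.1) b := fun U U' => by
    refine sub_eq_zero.1 (eq_zero_of_eps_mul X _ ?_)
    show eps X _ * pb X _ (resX X (inf_le_left (a := U.1) (b := U'.1)) (b U) -
      resX X (inf_le_right (a := U.1) (b := U'.1)) (b U')) = 0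
    rw [map_sub, mul_sub, ← res_pb, ← res_pb, sub_eq_zero]
    conv_lhs => rw [← res_eps X (inf_le_left (a := U.1) (b := U'.1)), ← map_mul, hb]
    conv_rhs => rw [← res_eps X (inf_le_right (a := U.1) (b := U'.1)), ← map_mul, hb]
    show (res X _ ≫ res X _) z = (res X _ ≫ res X _) z
    rw [← Functor.map_comp, ← Functor.map_comp]
    rfl
  obtain ⟨b₀, hb₀, -⟩ := X.left.sheaf.existsUnique_gluing' (fun U : ι => U.1) V (fun U => homOfLE U.2.2) hcov b hcomp
  refine ⟨b₀, (Z X).left.sheaf.eq_of_locally_eq' (fun U : ι => ovr X U.1) (ovr X V)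
    (fun U => homOfLE ((pi X).preimage_mono U.2.2)) ?_ _ _ fun U => ?_⟩
  · intro x hx
    obtain ⟨U, hxU⟩ := Opens.mem_iSup.1 (hcov (show pi X x ∈ V from hx))
    exact Opens.mem_iSup.2 ⟨U, hxU⟩
  · show res X U.2.2 (eps X V * pb X V b₀) = res X U.2.2 z
    rw [map_mul, res_eps, res_pb, ← hb U]
    congr 2
    exact hb₀ U

end Groth.Agent.AutVec57
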