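import Groth.Agent.AutVec57.Thick
import Groth.Agent.AlgGrp79.Act
import Groth.Prelude.Def_AutSch
import Groth.Prelude.Def_Omega4

/-!
Derivations of the structure sheaf and families of automorphisms over the dual numbers.
-/

set_option autoImplicit false
set_option linter.style.haveILetI false
set_option backward.isDefEq.respectTransparency.types false

noncomputable section

universe u

open CategoryTheory CategoryTheory.Limits MonoidalCategory CartesianMonoidalCategory AlgebraicGeometry TopologicalSpace Opposite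

namespace Groth.Agent.AutVec57

/-- Morphisms with the same underlying map agreeing on sections are equal. -/
theorem hom_eq {P Q : Scheme.{u}} {f g : P ⟶ Q} (hb : f.base = g.base)
    (h : ∀ (U : Q.Opens) (V : P.Opens) (e₁ : V ≤ f ⁻¹ᵁ U) (e₂ : V ≤ g ⁻¹ᵁ U), f.appLE U V e₁ = g.appLE U V e₂) :
    f = g := by
  refine Scheme.Hom.ext hb fun U => ?_
  have he : g ⁻¹ᵁ U ≤ f ⁻¹ᵁ U := fun x hx => by
    show f x ∈ U
    rw [show f x = g x from congr($hb x)]
    exact hx
  exact (h U (g ⁻¹ᵁ U) he le_rfl).trans (by simp [Scheme.Hom.appLE])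

variable {k : Type u} [Field k] (X : Over (Spec (CommRingCat.of k)))

/-- A vector field. -/
@[ext]
structure VecField where
  /-- the derivation on sections -/
  toFun : ∀ V : X.left.Opens, Γ(X.left, V) → Γ(X.left, V)
  map_add : ∀ (V : X.left.Opens) (a b : Γ(X.left, V)), toFun V (a + b) = toFun V a + toFun V b
  map_mul : ∀ (V : X.left.Opens) (a b : Γ(X.left, V)), toFun V (a * b) = a * toFun V b + b * toFun V a
  map_res : ∀ {V W : X.left.Opens} (h : W ≤ V) (a : Γ(X.left, V)),
    toFun W (resX X h a) = resX X h (toFun V a)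
  map_str : ∀ (U : (Spec (CommRingCat.of k)).Opens) (a : Γ(Spec (CommRingCat.of k), U)),
    toFun (X.hom ⁻¹ᵁ U) (X.hom.app U a) = 0

variable {X}

theorem VecField.map_zero (v : VecField X) (V : X.left.Opens) : v.toFun V 0 = 0 := by
  simpa using v.map_add V 0 0

theorem VecField.map_one (v : VecField X) (V : X.left.Opens) : v.toFun V 1 = 0 := by
  simpa using v.map_mul V 1 1

/-- the opposite vector field -/
def VecField.neg (v : VecField X) : VecField X where
  toFun V a := -v.toFun V a
  map_add V a b := by rw [v.map_add, neg_add]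
  map_mul V a b := by rw [v.map_mul]; ring
  map_res h a := by rw [v.map_res, _root_.map_neg]
  map_str U a := by rw [v.map_str, neg_zero]

theorem VecField.neg_neg (v : VecField X) : v.neg.neg = v := by
  ext V a
  exact _root_.neg_neg _

/-- the vector field of a derivation -/
def ofDer (D : OmegaSh.Der X.hom (Coh.structureModule X.left)) : VecField X where
  toFun V a := OmegaSh.fnSect X.left V (D.app V a)
  map_add V a b := by rw [map_add, map_add]
  map_mul V a b := D.d_mul (X := op V) a b
  map_res h a := D.d_map (homOfLE h).op a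
  map_str U a := D.d_app (X := op U) a

/-- the ring map of a vector field -/
def VecField.appHom (v : VecField X) (V : X.left.Opens) : Γ(X.left, V) ⟶ Γ((Z X).left, ovr X V) :=
  CommRingCat.ofHom
  { toFun := fun a => pb X V a + eps X V * pb X V (v.toFun V a)
    map_one' := by rw [v.map_one, _root_.map_zero, mul_zero, add_zero, _root_.map_one]
    map_zero' := by rw [v.map_zero, _root_.map_zero, mul_zero, add_zero]
    map_add' := fun a b => by rw [v.map_add, _root_.map_add, _root_.map_add]; ring
    map_mul' := fun a b => by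
      rw [v.map_mul, _root_.map_add, _root_.map_mul, _root_.map_mul, _root_.map_mul]
      linear_combination (-(pb X V (v.toFun V a) * pb X V (v.toFun V b))) * eps_sq X V }

theorem VecField.appHom_apply (v : VecField X) (V : X.left.Opens) (a : Γ(X.left, V)) :
    v.appHom V a = pb X V a + eps X V * pb X V (v.toFun V a) := rfl

theorem VecField.res_appHom (v : VecField X) {V W : X.left.Opens} (h : W ≤ V) (a : Γ(X.left, V)) :
    res X h (v.appHom V a) = v.appHom W (resX X h a) := by
  rw [v.appHom_apply, v.appHom_apply, _root_.map_add, _root_.map_mul, res_eps, res_pb, res_pb, v.map_res]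

/-- the map of presheafed spaces of a vector field -/
def VecField.psHom (v : VecField X) : (Z X).left.toPresheafedSpace.Hom X.left.toPresheafedSpace where
  base := (pi X).base
  c :=
    { app := fun V => v.appHom V.unop
      naturality := fun {V W} i => by
        refine CommRingCat.hom_ext (RingHom.ext fun a => ?_)
        exact (v.res_appHom i.unop.le a).symm }

/-- the morphism of a vector field -/
def VecField.homLeft (v : VecField X) : (Z X).left ⟶ X.left :=
  ⟨⟨v.psHom, fun z => ⟨fun t ht => by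
    obtain ⟨V, hz, a, rfl⟩ := X.left.presheaf.germ_exist t
    have h1 : v.psHom.stalkMap z (X.left.presheaf.germ V _ hz a) =
        (Z X).left.presheaf.germ (ovr X V) z hz (v.appHom V a) :=
      PresheafedSpace.stalkMap_germ_apply v.psHom V z hz a
    let g := (Z X).left.presheaf.germ (ovr X V) z hz
    let n := g (eps X V * pb X V (v.toFun V a))
    have hn : IsNilpotent n := ⟨2, by
      rw [pow_two, ← _root_.map_mul, show eps X V * pb X V (v.toFun V a) * (eps X V * pb X V (v.toFun V a)) = 0 by
        linear_combination (pb X V (v.toFun V a) * pb X V (v.toFun V a)) * eps_sq X V, _root_.map_zero]⟩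
    have hu : IsUnit (g (pb X V a) + n) := by
      rw [← _root_.map_add, ← v.appHom_apply, ← h1]
      exact ht
    have hu' : IsUnit (g (pb X V a)) := by
      have := hn.neg.isUnit_add_left_of_commute hu (mul_comm _ _)
      rwa [add_neg_cancel_right] at this
    refine isUnit_of_map_unit ((pi X).stalkMap z).hom _ ?_
    have h2 := (pi X).germ_stalkMap_apply V z hz a
    rw [← h2] at hu'
    exact hu'⟩⟩⟩

theorem VecField.homLeft_base (v : VecField X) : v.homLeft.base = (pi X).base := rfl

theorem VecField.homLeft_app (v : VecField X) (V : X.left.Opens) : v.homLeft.app V = v.appHom V := rfl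

theorem VecField.homLeft_appLE (v : VecField X) (V : X.left.Opens) (e : ovr X V ≤ v.homLeft ⁻¹ᵁ V) :
    v.homLeft.appLE V (ovr X V) e = v.appHom V := by
  rw [← v.homLeft_app, Scheme.Hom.appLE]
  exact (congrArg _ ((Z X).left.presheaf.map_id _)).trans (Category.comp_id _)

theorem appLE_eq_of_ovr {f g : (Z X).left ⟶ X.left} (hb : f.base = (pi X).base) (hb' : g.base = (pi X).base)
    (h : ∀ (V : X.left.Opens) (e₁ : ovr X V ≤ f ⁻¹ᵁ V) (e₂ : ovr X V ≤ g ⁻¹ᵁ V),
      f.appLE V (ovr X V) e₁ = g.appLE V (ovr X V) e₂) : f = g := by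
  refine hom_eq (hb.trans hb'.symm) fun U W e₁ e₂ => ?_
  have hW : W ≤ ovr X U := fun x hx => by
    show pi X x ∈ U
    rw [show pi X x = f x from congr($(hb.symm) x)]
    exact e₁ hx
  have e₁' : ovr X U ≤ f ⁻¹ᵁ U := fun x hx => by
    show f x ∈ U
    rw [show f x = pi X x from congr($hb x)]
    exact hx
  have e₂' : ovr X U ≤ g ⁻¹ᵁ U := fun x hx => by
    show g x ∈ U
    rw [show g x = pi X x from congr($hb' x)]
    exact hx
  rw [← Scheme.Hom.appLE_map f e₁' (homOfLE hW).op, ← Scheme.Hom.appLE_map g e₂' (homOfLE hW).op, h]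

theorem pb_str (U : (Spec (CommRingCat.of k)).Opens) (a : Γ(Spec (CommRingCat.of k), U)) (v : VecField X) :
    v.appHom (X.hom ⁻¹ᵁ U) (X.hom.app U a) = pb X (X.hom ⁻¹ᵁ U) (X.hom.app U a) := by
  rw [v.appHom_apply, v.map_str, _root_.map_zero, mul_zero, add_zero]

/-- the family over the dual numbers of a vector field -/
def VecField.fam (v : VecField X) : X ⊗ dualT k ⟶ X :=
  Over.homMk v.homLeft (by
    show v.homLeft ≫ X.hom = (Z X).hom
    rw [← Over.w (fst X (dualT k))]
    refine hom_eq rfl fun U W e₁ e₂ => ?_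
    have hW : W ≤ ovr X (X.hom ⁻¹ᵁ U) := e₂
    rw [← Scheme.Hom.appLE_comp_appLE v.homLeft X.hom U (X.hom ⁻¹ᵁ U) W le_rfl e₁,
      ← Scheme.Hom.appLE_comp_appLE (pi X) X.hom U (X.hom ⁻¹ᵁ U) W le_rfl e₂,
      ← Scheme.Hom.appLE_map v.homLeft (U := X.hom ⁻¹ᵁ U) (V := ovr X (X.hom ⁻¹ᵁ U)) le_rfl (homOfLE hW).op,
      ← Scheme.Hom.appLE_map (pi X) (U := X.hom ⁻¹ᵁ U) (V := ovr X (X.hom ⁻¹ᵁ U)) le_rfl (homOfLE hW).op,
      v.homLeft_appLE, ← Scheme.Hom.app_eq_appLE, ← Scheme.Hom.app_eq_appLE]
    refine CommRingCat.hom_ext (RingHom.ext fun a => ?_)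
    exact congrArg _ (pb_str U a v))

theorem VecField.fam_left (v : VecField X) : v.fam.left = v.homLeft := rfl

theorem pi_injective : Function.Injective (pi X) := by
  intro z z' h
  obtain ⟨x, rfl⟩ := (surjective_sec X).surj z
  obtain ⟨x', rfl⟩ := (surjective_sec X).surj z'
  rw [← Scheme.Hom.comp_apply, ← Scheme.Hom.comp_apply, sec_pi] at h
  exact congrArg _ h

theorem VecField.sec_fam (v : VecField X) : sec X ≫ v.fam = 𝟙 X := by
  apply Over.OverMorphism.ext
  show (sec X).left ≫ v.homLeft = 𝟙 X.left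
  refine hom_eq (by rw [← sec_pi X]; rfl) fun U W e₁ e₂ => ?_
  have hW : W ≤ U := e₂
  rw [← Scheme.Hom.appLE_comp_appLE (sec X).left v.homLeft U (ovr X U) W le_rfl (hW.trans (sec_over X U)),
    v.homLeft_appLE,
    ← Scheme.Hom.appLE_map (sec X).left (U := ovr X U) (sec_over X U) (homOfLE hW).op,
    ← Scheme.Hom.appLE_map (𝟙 X.left) (U := U) (V := U) le_rfl (homOfLE hW).op, ← Category.assoc]
  congr 1
  rw [show (𝟙 X.left : X.left ⟶ X.left).appLE U U le_rfl = 𝟙 _ by
    simp only [Scheme.Hom.appLE, Scheme.Hom.id_app]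
    exact (congrArg _ (X.left.presheaf.map_id _)).trans (Category.comp_id _)]
  refine CommRingCat.hom_ext (RingHom.ext fun a => ?_)
  show red X U (v.appHom U a) = a
  rw [v.appHom_apply, _root_.map_add, _root_.map_mul, red_eps, zero_mul, add_zero, red_pb]

theorem VecField.endOf_comp (v : VecField X) : AutSch.endOf v.fam ≫ v.neg.fam = fst X (dualT k) := by
  apply Over.OverMorphism.ext
  let E : (Z X).left ⟶ (Z X).left := (AutSch.endOf v.fam).left
  show E ≫ v.neg.homLeft = pi X
  have hE₁ : E ≫ pi X = v.homLeft := congrArg (fun e : X ⊗ dualT k ⟶ X => e.left) (AutSch.endOf_fst v.fam)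
  have hE₂ : E ≫ (snd X (dualT k)).left = (snd X (dualT k)).left :=
    congrArg (fun e : X ⊗ dualT k ⟶ dualT k => e.left) (AutSch.endOf_snd v.fam)
  have hEid : ∀ z, E z = z := fun z => pi_injective (by rw [← Scheme.Hom.comp_apply, hE₁]; rfl)
  have hb : (E ≫ v.neg.homLeft).base = (pi X).base := by
    ext z
    show pi X (E z) = pi X z
    rw [hEid]
  refine appLE_eq_of_ovr hb rfl fun V e₁ e₂ => ?_
  have hE : ovr X V ≤ E ⁻¹ᵁ ovr X V := fun z hz => by show E z ∈ ovr X V; rwa [hEid]
  rw [← Scheme.Hom.appLE_comp_appLE E v.neg.homLeft V (ovr X V) (ovr X V) le_rfl hE, v.neg.homLeft_appLE,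
    ← Scheme.Hom.app_eq_appLE]
  refine CommRingCat.hom_ext (RingHom.ext fun a => ?_)
  show E.appLE (ovr X V) (ovr X V) hE (v.neg.appHom V a) = pb X V a
  have hEpb : ∀ b, E.appLE (ovr X V) (ovr X V) hE (pb X V b) = v.appHom V b := fun b => by
    show ((pi X).app V ≫ E.appLE (ovr X V) (ovr X V) hE) b = _
    rw [Scheme.Hom.app_eq_appLE, Scheme.Hom.appLE_comp_appLE, appLE_congr_hom hE₁, v.homLeft_appLE]
  have hEe : E.appLE (ovr X V) (ovr X V) hE (eps X V) = eps X V := by
    show ((snd X (dualT k)).left.appLE ⊤ (ovr X V) le_top ≫ E.appLE (ovr X V) (ovr X V) hE) _ = _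
    rw [Scheme.Hom.appLE_comp_appLE, appLE_congr_hom hE₂]
    rfl
  rw [v.neg.appHom_apply, _root_.map_add, _root_.map_mul, hEpb, hEe, hEpb, v.appHom_apply, v.appHom_apply,
    show v.neg.toFun V a = -v.toFun V a from rfl, _root_.map_neg]
  linear_combination (pb X V (v.toFun V (-v.toFun V a))) * eps_sq X V

theorem VecField.isAutFamily (v : VecField X) : AutSch.IsAutFamily v.fam := by
  refine ⟨AutSch.endOf v.neg.fam, ?_, ?_⟩
  · refine CartesianMonoidalCategory.hom_ext _ _ ?_ ?_
    · rw [Category.assoc, AutSch.endOf_fst, v.endOf_comp, Category.id_comp]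
    · rw [Category.assoc, AutSch.endOf_snd, AutSch.endOf_snd, Category.id_comp]
  · refine CartesianMonoidalCategory.hom_ext _ _ ?_ ?_
    · rw [Category.assoc, AutSch.endOf_fst]
      conv_lhs => arg 2; rw [← v.neg_neg]
      rw [v.neg.endOf_comp, Category.id_comp]
    · rw [Category.assoc, AutSch.endOf_snd, AutSch.endOf_snd, Category.id_comp]

theorem VecField.eq_zero_of_fam_eq (v : VecField X) (h : v.fam = fst X (dualT k)) (V : X.left.Opens)
    (a : Γ(X.left, V)) : v.toFun V a = 0 := by
  refine eq_zero_of_eps_mul X _ ?_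
  have h1 : v.homLeft = pi X := congrArg (fun e : X ⊗ dualT k ⟶ X => e.left) h
  have h2 : v.appHom V = pb X V := by
    rw [← v.homLeft_appLE V le_rfl, appLE_congr_hom h1, ← Scheme.Hom.app_eq_appLE]
  have h3 : v.appHom V a = pb X V a := congr($h2 a)
  rwa [v.appHom_apply, add_eq_left] at h3

/-- A family reducing to the identity is the projection, if all derivations vanish. -/
theorem eq_fst_of_der (hD : ∀ (D : OmegaSh.Der X.hom (Coh.structureModule X.left)) (U : X.left.Opens)
      (s : Γ(X.left, U)), D.app U s = 0)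
    (φ : X ⊗ dualT k ⟶ X) (hφ : sec X ≫ φ = 𝟙 X) : φ = fst X (dualT k) := by
  have hs : (sec X).left ≫ φ.left = 𝟙 X.left := congrArg (fun e : X ⟶ X => e.left) hφ
  have hb := base_eq_of_sec X hs
  have hle : ∀ V : X.left.Opens, ovr X V ≤ φ.left ⁻¹ᵁ V := fun V x hx => by
    show φ.left x ∈ V
    rw [show φ.left x = pi X x from congr($hb x)]
    exact hx
  let F := fun V : X.left.Opens => φ.left.appLE V (ovr X V) (hle V)
  have hred : ∀ V a, red X V (F V a - pb X V a) = 0 := fun V a => by
    rw [map_sub, red_pb, sub_eq_zero]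
    show (φ.left.appLE V (ovr X V) (hle V) ≫ red X V) a = a
    rw [Scheme.Hom.appLE_comp_appLE, appLE_congr_hom hs]
    rw [show (𝟙 X.left : X.left ⟶ X.left).appLE V V le_rfl = 𝟙 _ by
      simp only [Scheme.Hom.appLE, Scheme.Hom.id_app]
      exact (congrArg _ (X.left.presheaf.map_id _)).trans (Category.comp_id _)]
    rfl
  choose d hd using fun V a => exists_eps_mul X (V := V) _ (hred V a)
  have huniq : ∀ (V : X.left.Opens) (b c : Γ(X.left, V)), eps X V * pb X V b = eps X V * pb X V c → b = c :=
    fun V b c h => sub_eq_zero.1 (eq_zero_of_eps_mul X _ (by rw [map_sub, mul_sub, h, sub_self]))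
  have hF : ∀ V a, F V a = pb X V a + eps X V * pb X V (d V a) := fun V a => by rw [hd]; ring
  have hdadd : ∀ (V : X.left.Opens) (a b : Γ(X.left, V)), d V (a + b) = d V a + d V b := fun V a b =>
    huniq V _ _ (by rw [map_add, mul_add, hd, hd, hd, map_add, map_add]; ring)
  have hdmul : ∀ (V : X.left.Opens) (a b : Γ(X.left, V)), d V (a * b) = a * d V b + b * d V a := fun V a b =>
    huniq V _ _ (by
      rw [hd, map_mul, map_mul, map_add, map_mul, map_mul, hF, hF]
      linear_combination (pb X V (d V a) * pb X V (d V b)) * eps_sq X V)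
  have hdres : ∀ {V W : X.left.Opens} (h : W ≤ V) (a : Γ(X.left, V)), d W (resX X h a) = resX X h (d V a) :=
    fun {V W} h a => huniq W _ _ (by
      rw [hd, ← res_pb, ← res_pb, ← res_eps X h, ← map_mul, hd, map_sub]
      congr 1
      show (resX X h ≫ F W) a = (F V ≫ res X h) a
      simp only [F, Scheme.Hom.map_appLE, Scheme.Hom.appLE_map])
  have hdstr : ∀ (U : (Spec (CommRingCat.of k)).Opens) (a : Γ(Spec (CommRingCat.of k), U)),
      d (X.hom ⁻¹ᵁ U) (X.hom.app U a) = 0 := fun U a => huniq _ _ _ (by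
    rw [hd, map_zero, mul_zero, sub_eq_zero]
    show (X.hom.app U ≫ F _) a = (X.hom.app U ≫ pb X _) a
    simp only [F, pb, Scheme.Hom.app_eq_appLE, Scheme.Hom.appLE_comp_appLE]
    have hw : φ.left ≫ X.hom = pi X ≫ X.hom := (Over.w φ).trans (Over.w (fst X (dualT k))).symm
    rw [appLE_congr_hom hw])
  let D : OmegaSh.Der X.hom (Coh.structureModule X.left) :=
    { d := fun {V} => AddMonoidHom.mk' (fun a => OmegaSh.strSect X.left V.unop (d V.unop a))
        (fun a b => (congrArg _ (hdadd V.unop a b)).trans ((OmegaSh.strSect X.left V.unop).map_add _ _))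
      d_mul := fun {V} a b => hdmul V.unop a b
      d_map := fun {V W} i a => hdres i.unop.le a
      d_app := fun {U} a => hdstr U.unop a }
  apply Over.OverMorphism.ext
  refine appLE_eq_of_ovr hb rfl fun V e₁ e₂ => ?_
  refine CommRingCat.hom_ext (RingHom.ext fun a => ?_)
  have h0 : d V a = 0 := hD D V a
  have h1 := hF V a
  rw [h0, map_zero, mul_zero, add_zero] at h1
  refine h1.trans ?_
  show pb X V a = _
  rw [← Scheme.Hom.app_eq_appLE]

end Groth.Agent.AutVec57
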